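import Cfsg.Agent.H865.EE.PP

/-!
# Interface for S5923 / S5924 : `PSL₃(5)` in `E₈(3)` (helper865)

* `SL35 = SL₃(5)`, `VP` (elations with centre `p₀ = ⟨e₀⟩`), `VL` (axis `⟨e₀,e₁⟩`), `US = VP·VL` (unitriangular), `z0 = diag(4,2,2)`,
  `io` (inverse transpose);
* `ac g v`, `Fx K S` (fixed vectors of a set `S` of elements of `chevE8.group K`);
* `Good f`, `GoodIn Γ f` for `f : SL35 →* chevE8.group K`;
* characteristic 3: `n0` (represents `w8⁻¹`), `sg = tau`, `GT = Fix sg`, `AT = T ⊓ GT` (order `10⁴`), `T5 = AT[5]`.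
-/

set_option autoImplicit false
set_option linter.unusedSectionVars false

namespace Cfsg.Agent.H865.L5

open CoxeterSystem Subgroup Cfsg Cfsg.Lie Cfsg.Lie.ChevalleyDatum
open Cfsg.Agent.ChevalleyStructure Cfsg.Agent.ChevalleyStructure.Elts Cfsg.Agent.ChevalleyStructure.CoxeterGeom
  Cfsg.Agent.ChevalleyStructure.CoxeterGeomTypes Cfsg.Agent.ChevalleyStructure.NPerm
open Cfsg.Agent.Tits.Roots Cfsg.Agent.Tits.Core Cfsg.Agent.Nodes Cfsg.Agent.Nodes.SubComb Cfsg.Agent.Nodes.Reps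
  Cfsg.Agent.Nodes.BNOf Cfsg.Agent.Nodes.RGDChev Cfsg.Agent.Nodes.Bruhat Cfsg.Agent.Nodes.Coroot
open Cfsg.Agent.KFacts.RgdField Cfsg.Agent.KFacts.RgdChevCoord Cfsg.Agent.BpExc.TorCent Cfsg.Agent.BpExc.TorChev
open Cfsg.Agent.GpExc.Field Cfsg.Agent.BpExc.Tow Cfsg.Agent.BpExc.TowChev Cfsg.Agent.BpExc.Fr
  Cfsg.Agent.BpExc.LangFr Cfsg.Agent.BpExc.FamField Cfsg.Agent.BpExc.FamInst Cfsg.Agent.H129.TorusChar
  Cfsg.Agent.H795.LangT Cfsg.Agent.BpExc.FamExt Cfsg.Agent.BpExc.FamUntw Cfsg.Agent.H378.TorDual Cfsg.Agent.H378.TorChar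
  Cfsg.Agent.H378.TorFin Cfsg.Agent.H378.RankOne Cfsg.Agent.H378.RootTor Cfsg.Agent.H865.EE

attribute [local irreducible] w8

/-! ### `SL₃(5)` -/

instance fact_five : Fact (Nat.Prime 5) := ⟨by norm_num⟩

/-- `SL₃(5)` -/
abbrev SL35 := Matrix.SpecialLinearGroup (Fin 3) (ZMod 5)

/-- the elation `I + a e₀₁ + b e₀₂` with centre `p₀` -/
def vp (a b : ZMod 5) : SL35 := ⟨!![1, a, b; 0, 1, 0; 0, 0, 1], by simp [Matrix.det_fin_three]⟩

/-- the elation `I + a e₀₂ + b e₁₂` with axis `⟨e₀, e₁⟩` -/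
def vl (a b : ZMod 5) : SL35 := ⟨!![1, 0, a; 0, 1, b; 0, 0, 1], by simp [Matrix.det_fin_three]⟩

/-- the elation `I + a e₁₀ + b e₂₀` with axis `⟨e₁, e₂⟩` -/
def vm (a b : ZMod 5) : SL35 := ⟨!![1, 0, 0; a, 1, 0; b, 0, 1], by simp [Matrix.det_fin_three]⟩

/-- unitriangular elements -/
def us (a b c : ZMod 5) : SL35 := ⟨!![1, a, b; 0, 1, c; 0, 0, 1], by simp [Matrix.det_fin_three]⟩

/-- the elations with centre `p₀` (order 25) -/
def VP : Set SL35 := {g | ∃ a b, g = vp a b}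

/-- the elations with axis `⟨e₀, e₁⟩` (order 25) -/
def VL : Set SL35 := {g | ∃ a b, g = vl a b}

/-- the elations with axis `⟨e₁, e₂⟩` (order 25) -/
def VM : Set SL35 := {g | ∃ a b, g = vm a b}

/-- a Sylow 5-subgroup (order 125) -/
def US : Set SL35 := {g | ∃ a b c, g = us a b c}

/-- `z0 = diag(4,2,2)`, `z0 v z0⁻¹ = v²` for `v ∈ VP` -/
def z0 : SL35 := ⟨!![4, 0, 0; 0, 2, 0; 0, 0, 2], by
  rw [Matrix.det_fin_three]
  decide⟩

theorem transpose_mul' (g h : SL35) : (g * h).transpose = h.transpose * g.transpose :=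
  Subtype.ext (Matrix.transpose_mul g.1 h.1)

theorem transpose_one' : (1 : SL35).transpose = 1 := Subtype.ext Matrix.transpose_one

theorem transpose_transpose' (g : SL35) : g.transpose.transpose = g := Subtype.ext (Matrix.transpose_transpose g.1)

theorem transpose_inv' (g : SL35) : g⁻¹.transpose = g.transpose⁻¹ := by
  rw [eq_inv_iff_mul_eq_one, ← transpose_mul', mul_inv_cancel, transpose_one']

/-- inverse transpose -/
def io : SL35 ≃* SL35 where
  toFun g := g⁻¹.transpose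
  invFun g := g⁻¹.transpose
  left_inv g := by
    show ((g⁻¹ : SL35).transpose : SL35)⁻¹.transpose = g
    rw [transpose_inv', transpose_transpose', inv_inv]
  right_inv g := by
    show ((g⁻¹ : SL35).transpose : SL35)⁻¹.transpose = g
    rw [transpose_inv', transpose_transpose', inv_inv]
  map_mul' g h := by rw [mul_inv_rev, transpose_mul']

theorem io_apply (g : SL35) : io g = g⁻¹.transpose := rfl

theorem io_io (g : SL35) : io (io g) = g := io.left_inv g

/-! ### The modules -/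

section Mod

variable {K : Type} [Field K]

/-- the action on the module of dimension 248 -/
noncomputable def ac (g : ↥(chevE8.group K)) : (chevE8.Idx → K) →ₗ[K] (chevE8.Idx → K) :=
  Matrix.mulVecLin ((g : GL chevE8.Idx K) : Matrix chevE8.Idx chevE8.Idx K)

theorem ac_one (v : chevE8.Idx → K) : ac (1 : ↥(chevE8.group K)) v = v := by
  show Matrix.mulVec (1 : Matrix chevE8.Idx chevE8.Idx K) v = v
  rw [Matrix.one_mulVec]

theorem ac_mul (g h : ↥(chevE8.group K)) (v : chevE8.Idx → K) : ac (g * h) v = ac g (ac h v) := by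
  show Matrix.mulVec (((g * h : ↥(chevE8.group K)) : GL chevE8.Idx K) : Matrix chevE8.Idx chevE8.Idx K) v =
    Matrix.mulVec ((g : GL chevE8.Idx K) : Matrix chevE8.Idx chevE8.Idx K)
      (Matrix.mulVec ((h : GL chevE8.Idx K) : Matrix chevE8.Idx chevE8.Idx K) v)
  rw [Matrix.mulVec_mulVec]
  rfl

/-- the fixed vectors of a set of elements -/
noncomputable def Fx (S : Set ↥(chevE8.group K)) : Submodule K (chevE8.Idx → K) where
  carrier := {v | ∀ g ∈ S, ac g v = v}
  zero_mem' := fun g _ => map_zero _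
  add_mem' := fun {a b} ha hb g hg => by rw [map_add, ha g hg, hb g hg]
  smul_mem' := fun c a ha g hg => by rw [map_smul, ha g hg]

theorem mem_Fx {S : Set ↥(chevE8.group K)} {v : chevE8.Idx → K} : v ∈ Fx S ↔ ∀ g ∈ S, ac g v = v := Iff.rfl

/-- **Good homomorphisms** -/
structure Good (f : SL35 →* ↥(chevE8.group K)) : Prop where
  /-- the fixed space of the elations with centre `p₀` has dimension 8 -/
  dim : Module.finrank K (Fx (f '' VP)) = 8
  /-- `z0²` acts as `-1` on it -/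
  zz : ∀ v ∈ Fx (f '' VP), ac (f z0) (ac (f z0) v) = -v
  /-- the Sylow 5-subgroup has no fixed vectors -/
  fixS : ∀ v ∈ Fx (f '' US), v = 0

/-- **Good homomorphisms into a subgroup** -/
structure GoodIn (Γ : Subgroup ↥(chevE8.group K)) (f : SL35 →* ↥(chevE8.group K)) : Prop extends Good f where
  /-- `C_Γ(f US) ≤ f US` -/
  centS : ∀ g ∈ Γ, (∀ s ∈ US, g * f s = f s * g) → ∃ s ∈ US, g = f s
  /-- `C_Γ(f VP)` is abelian -/
  centV : ∀ g ∈ Γ, ∀ h ∈ Γ, (∀ s ∈ VP, g * f s = f s * g) → (∀ s ∈ VP, h * f s = f s * h) → g * h = h * g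

end Mod

/-- `E₈(3)` -/
abbrev G3 := ↥(chevE8.group (ZMod 3))

/-! ### The groups in characteristic 3 -/

instance fact_three : Fact (Nat.Prime 3) := ⟨Nat.prime_three⟩

section Grp

variable (k : Type) [Field k] [CharP k 3]

/-- a representative of `w8⁻¹` -/
noncomputable def n0 : ↥(chevE8.group k) := (wL.reverse.map (nc tp8 k)).prod

variable {k} in
theorem n0_rp (hk : LocFin k) : Rp cs8 (nsysL tp8 cs8 hk 3) w8⁻¹ (n0 k) := by
  have h : ∀ ω : List (Fin 8), Rp cs8 (nsysL tp8 cs8 hk 3) (cs8.wordProd ω) ((ω.map (nc tp8 k)).prod) := by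
    intro ω
    induction ω with
    | nil =>
      rw [wordProd_nil, List.map_nil, List.prod_nil]
      exact rp_one
    | cons i ω ih =>
      rw [wordProd_cons, List.map_cons, List.prod_cons]
      exact Rp.mul ⟨(nsysL tp8 cs8 hk 3).norm i, wq_simple _ _ i⟩ ih
  have e : w8⁻¹ = cs8.wordProd wL.reverse := by
    rw [w8, wordProd_reverse]
  rw [e]
  exact h _

variable [IsAlgClosed k] [PerfectRing k 3]

/-- the Frobenius endomorphism -/
noncomputable def sg : ↥(chevE8.group k) →* ↥(chevE8.group k) := tau chevE8 k 3 1 (n0 k)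

/-- the fixed points of `sg` (isomorphic to `E₈(3)`) -/
noncomputable def GT : Subgroup ↥(chevE8.group k) := (sg k).eqLocus (MonoidHom.id _)

/-- the torus of order `10⁴` -/
noncomputable def AT : Subgroup ↥(chevE8.group k) := TT chevE8 k ⊓ GT k

/-- the elements of order 5 of the torus -/
def T5 : Set ↥(chevE8.group k) := {t | t ∈ AT k ∧ t ^ 5 = 1}

variable {k} in
/-- no root is trivial on `S` -/
def Reg (S : Set ↥(chevE8.group k)) : Prop := ∀ a, Rt a → ∃ t ∈ S, cX tp8 t a ≠ 1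

end Grp

end Cfsg.Agent.H865.L5
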