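import Cfsg.Agent.H865.L5.GoodEx
import Cfsg.Agent.H848.L5.Simple
import Cfsg.Agent.H173.L5.CardCases
import Cfsg.Agent.H513.L5.ThE
import Cfsg.Agent.H975.L5.M12
import Cfsg.Agent.H857.L5.NoTwo
import Cfsg.Agent.H857.L5.NoLarge
import Cfsg.Agent.S1065
import Cfsg.Agent.SignalizersComponents.LayerBasic

/-!
# Assembly of S5923 (helper865)
-/

set_option autoImplicit false
set_option linter.unusedSectionVars false

namespace Cfsg.Agent.H865.L5

open Subgroup Cfsg Cfsg.Lie
open Cfsg.Agent.H858.L5 (psl_equiv card_SL simple_SL)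
open Cfsg.Agent.H173.L5 (card_cases)
open Cfsg.Agent.H857.L5 (no_large no_two)

/-- M5 -/
theorem exists_simple {f : SL35 →* G3} (h : GoodIn ⊤ f) (hf : Function.Injective f) {M : Subgroup G3}
    (hM : f.range ≤ M) (hM2 : M ≠ ⊤) :
    ∃ T : Subgroup G3, T ≤ M ∧ M ≤ Subgroup.normalizer (T : Set G3) ∧ IsSimpleGroup T ∧ f.range ≤ T ∧ T ≠ ⊤ :=
  Cfsg.Agent.H848.L5.exists_simple_of simple_SL card_SL hf
    (fun hR h3 hn => Cfsg.Agent.H975.L5.no_three_of (Cfsg.Agent.H602.L5.irred h.toGood) hR h3 hn)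
    (fun hR h5 _ hn => Cfsg.Agent.H975.L5.no_five_of card_SL simple_SL h hf hR h5 hn)
    (fun hR _ hr h7 h5 hab hn => no_large h hf hR hr h7 h5 hab hn)
    (fun hR h2 hn => no_two h hf hR h2 hn) (cent_eq h hf) hM hM2

theorem no_th {f : SL35 →* G3} (h : GoodIn ⊤ f) (hf : Function.Injective f) {T : Subgroup G3}
    (hT : Cfsg.Spor.IsoTh T) (hT2 : f.range ≤ T) : False :=
  Cfsg.Agent.H513.L5.no_th_of h hf (norm_eq h hf) hT hT2

theorem nine_dvd : 9 ∣ Nat.card G3 := by
  have h := Cfsg.Agent.S1065.result (F := ZMod 3) (q := 3) (ZMod.card 3)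
  rw [h]
  have h1 : 9 ∣ 3 ^ 120 := pow_dvd_pow 3 (by norm_num : 2 ≤ 120)
  exact (((((((h1.mul_right _).mul_right _).mul_right _).mul_right _).mul_right _).mul_right _).mul_right _).mul_right _

theorem eq_conj_aux {G : Type*} [Group G] {x h y : G} (e : x = h * y * h⁻¹) : y = h⁻¹ * x * h := by
  rw [e]; group

theorem le_norm_map {G : Type*} [Group G] (H : Subgroup G) (N : Subgroup ↥H) (hn : N.Normal) :
    H ≤ Subgroup.normalizer ((N.map H.subtype : Subgroup G) : Set G) := by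
  intro h hh
  rw [Subgroup.mem_normalizer_iff]
  intro y
  constructor
  · rintro ⟨x, hx, rfl⟩
    exact ⟨⟨h, hh⟩ * x * ⟨h, hh⟩⁻¹, hn.conj_mem _ hx _, rfl⟩
  · rintro ⟨x, hx, e⟩
    refine ⟨⟨h, hh⟩⁻¹ * x * ⟨h, hh⟩, ?_, ?_⟩
    · have := hn.conj_mem _ hx (⟨h, hh⟩⁻¹ : ↥H)
      rwa [inv_inv] at this
    · rw [map_mul, map_mul, map_inv]
      have e' : H.subtype x = h * y * h⁻¹ := e
      exact (eq_conj_aux e').symm

theorem main5923 {F : Type*} [Field F] [Fintype F] (hF : Fintype.card F = 5)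
    (H : Subgroup ↥(Cfsg.Lie.chevE8.group (ZMod 3)))
    (hH : Nonempty (↥(Cfsg.generalizedFittingSubgroup ↥H) ≃* Matrix.ProjectiveSpecialLinearGroup (Fin 3) F)) :
    Nonempty (↥H ≃* Matrix.ProjectiveSpecialLinearGroup (Fin 3) F) ∧ IsCoatom H := by
  obtain ⟨φ⟩ := hH
  obtain ⟨ψ⟩ := psl_equiv hF
  let f0 : SL35 →* G3 := (H.subtype.comp (Cfsg.generalizedFittingSubgroup ↥H).subtype).comp
    (φ.symm.toMonoidHom.comp ψ.toMonoidHom)
  have hf0 : Function.Injective f0 := by
    refine (Function.Injective.comp Subtype.val_injective Subtype.val_injective).comp ?_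
    exact φ.symm.injective.comp ψ.injective
  have hr0 : f0.range = (Cfsg.generalizedFittingSubgroup ↥H).map H.subtype := by
    ext y
    constructor
    · rintro ⟨x, rfl⟩
      exact ⟨_, (φ.symm (ψ x)).2, rfl⟩
    · rintro ⟨x, hx, rfl⟩
      refine ⟨ψ.symm (φ ⟨x, hx⟩), ?_⟩
      show (((φ.symm (ψ (ψ.symm (φ ⟨x, hx⟩))) : ↥(Cfsg.generalizedFittingSubgroup ↥H)) : ↥H) : G3) = _
      rw [ψ.apply_symm_apply, φ.symm_apply_apply]
      rfl
  obtain ⟨f, hf, hgood, hrf⟩ := exists_good f0 hf0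
  have hHX : H ≤ f.range := by
    rw [← norm_eq hgood hf, hrf, hr0]
    exact le_norm_map H _ (Cfsg.Agent.SignalizersComponents.LayerBasic.generalizedFittingSubgroup_normal ↥H)
  have hHe : H = f.range := le_antisymm hHX (by
    rw [hrf, hr0]
    rintro _ ⟨x, -, rfl⟩
    exact x.2)
  refine ⟨?_, ?_, ?_⟩
  · have e1 : ↥H ≃* ↥(f.range) := MulEquiv.subgroupCongr hHe
    exact ⟨(e1.trans (MonoidHom.ofInjective hf).symm).trans ψ⟩
  · intro htop
    have h9 := nine_dvd
    have hc : Nat.card H = 372000 := by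
      rw [hHe, ← card_SL]
      exact Nat.card_congr (MonoidHom.ofInjective hf).symm.toEquiv
    rw [htop, Subgroup.card_top] at hc
    rw [hc] at h9
    exact absurd h9 (by norm_num)
  · intro M hM
    by_contra hMt
    have hle : f.range ≤ M := hHe ▸ hM.le
    obtain ⟨T, hTM, hMN, hTs, hfT, hT⟩ := exists_simple hgood hf hle hMt
    have hfin : Finite G3 := inferInstance
    have hc : Nat.card f.range = 372000 := by
      rw [← card_SL]
      exact Nat.card_congr (MonoidHom.ofInjective hf).symm.toEquiv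
    have hd : 372000 ∣ Nat.card T := by
      rw [← hc]
      exact Subgroup.card_dvd_of_le hfT
    rcases card_cases hTs hd hT with h | h
    · have : f.range = T := Subgroup.eq_of_le_of_card_ge hfT (by rw [hc, h])
      rw [← this, norm_eq hgood hf, ← hHe] at hMN
      exact absurd hMN (not_le_of_gt hM)
    · exact no_th hgood hf h hfT

end Cfsg.Agent.H865.L5
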