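import Cfsg.Agent.H865.L5.Iso
import Cfsg.Agent.H343.L5.FiveElt
import Cfsg.Agent.H559.L5.FiveReg
import Cfsg.Agent.H342.L5.FixVec

/-!
# Regular toral `f VP` implies `GoodIn` (helper865, S5923, piece D2)
-/

set_option autoImplicit false
set_option linter.unusedSectionVars false

namespace Cfsg.Agent.H865.L5

open CoxeterSystem Subgroup Cfsg Cfsg.Lie Cfsg.Lie.ChevalleyDatum
open Cfsg.Agent.ChevalleyStructure Cfsg.Agent.ChevalleyStructure.Elts Cfsg.Agent.ChevalleyStructure.CoxeterGeom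
  Cfsg.Agent.ChevalleyStructure.CoxeterGeomTypes Cfsg.Agent.ChevalleyStructure.NPerm
open Cfsg.Agent.Tits.Roots Cfsg.Agent.Tits.Core Cfsg.Agent.Nodes Cfsg.Agent.Nodes.SubComb Cfsg.Agent.Nodes.Reps
  Cfsg.Agent.Nodes.BNOf Cfsg.Agent.Nodes.RGDChev Cfsg.Agent.Nodes.Bruhat Cfsg.Agent.Nodes.Coroot
open Cfsg.Agent.KFacts.RgdField Cfsg.Agent.KFacts.RgdChevCoord Cfsg.Agent.BpExc.TorCent Cfsg.Agent.BpExc.TorChev
open Cfsg.Agent.GpExc.Field Cfsg.Agent.BpExc.Tow Cfsg.Agent.BpExc.TowChev Cfsg.Agent.BpExc.Fr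
  Cfsg.Agent.BpExc.LangFr Cfsg.Agent.BpExc.FamField Cfsg.Agent.BpExc.FamInst Cfsg.Agent.H129.TorusChar
  Cfsg.Agent.H795.LangT Cfsg.Agent.BpExc.FamExt Cfsg.Agent.BpExc.FamUntw Cfsg.Agent.H378.TorDual Cfsg.Agent.H378.TorChar
  Cfsg.Agent.H378.TorFin Cfsg.Agent.H378.RankOne Cfsg.Agent.H378.RootTor Cfsg.Agent.H865.EE
open Cfsg.Agent.H343.L5 (sq_ne fix_zero fix_line five_elt)
open Cfsg.Agent.H559.L5 (five_of_reg)
open Cfsg.Agent.H342.L5 (mem_Fx_reg ac_rp)

attribute [local irreducible] w8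

/-! ### Elements of `SL₃(5)` -/

theorem vp_mul (a b c d : ZMod 5) : vp a b * vp c d = vp (a + c) (b + d) := by
  apply Subtype.ext
  show (vp a b).1 * (vp c d).1 = (vp (a + c) (b + d)).1
  ext i j
  fin_cases i <;> fin_cases j <;> simp [vp, Matrix.mul_apply, Fin.sum_univ_three, add_comm]

theorem vp_zero : vp 0 0 = 1 := by
  apply Subtype.ext
  ext i j
  fin_cases i <;> fin_cases j <;> simp [vp]

theorem vp_inj {a b c d : ZMod 5} (h : vp a b = vp c d) : a = c ∧ b = d := by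
  have h1 := congrArg (fun g : SL35 => g.1 0 1) h
  have h2 := congrArg (fun g : SL35 => g.1 0 2) h
  exact ⟨h1, h2⟩

theorem VP_comm {s t : SL35} (hs : s ∈ VP) (ht : t ∈ VP) : s * t = t * s := by
  obtain ⟨a, b, rfl⟩ := hs
  obtain ⟨c, d, rfl⟩ := ht
  rw [vp_mul, vp_mul, add_comm a, add_comm b]

theorem VP_mul {s t : SL35} (hs : s ∈ VP) (ht : t ∈ VP) : s * t ∈ VP := by
  obtain ⟨a, b, rfl⟩ := hs
  obtain ⟨c, d, rfl⟩ := ht
  exact ⟨_, _, vp_mul _ _ _ _⟩

theorem VP_sub_US : VP ⊆ US := by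
  rintro _ ⟨a, b, rfl⟩
  exact ⟨a, b, 0, rfl⟩

theorem vp_pow (a b : ZMod 5) (n : ℕ) : vp a b ^ n = vp (n * a) (n * b) := by
  induction n with
  | zero => simp [vp_zero]
  | succ n ih => rw [pow_succ, ih, vp_mul]; congr 1 <;> push_cast <;> ring

theorem us_eq (a b c : ZMod 5) : us a b c = vp a (b - a * c) * us 0 0 c := by
  apply Subtype.ext
  show (us a b c).1 = (vp a (b - a * c)).1 * (us 0 0 c).1
  ext i j
  fin_cases i <;> fin_cases j <;> simp [vp, us, Matrix.mul_apply, Fin.sum_univ_three]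

/-- the element `u` of order 5 -/
def uu : SL35 := us 0 0 1

theorem uu_mem : uu ∈ US := ⟨0, 0, 1, rfl⟩

theorem us_pow (c : ZMod 5) : us 0 0 c = uu ^ c.val := by revert c; decide

theorem uu_pow : uu ^ 5 = 1 := by decide

theorem uu_vp (a b : ZMod 5) : uu * vp a b * uu⁻¹ = vp a (b - a) := by revert a b; decide

theorem uu_vp' (a b : ZMod 5) : uu⁻¹ * vp a b * uu = vp a (b + a) := by revert a b; decide

theorem z0_pow : z0 ^ 4 = 1 := by decide

theorem z0_vp (a b : ZMod 5) : z0 * vp a b * z0⁻¹ = vp a b ^ 2 := by revert a b; decide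

theorem pow4 {M : Type*} [Monoid M] (a : M) : a ^ 4 = a * a * (a * a) := by
  rw [show (4 : ℕ) = 2 + 2 from rfl, pow_add, pow_two]

theorem pow5 {M : Type*} [Monoid M] (a : M) : a ^ 5 = a * a * (a * a) * a := by
  rw [pow_succ, pow4]

theorem z5 (a b : ZMod 5) (h : a * 2 * 2 = b) : -a = b := by
  subst h; revert a; decide

/-! ### Representatives -/

section Rep

variable {k : Type} [Field k] [CharP k 3] [IsAlgClosed k] [PerfectRing k 3] (hk : LocFin k)

/-- `y` represents `w` -/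
abbrev RP (hk : LocFin k) (w : W8) (y : ↥(chevE8.group k)) : Prop := Rp cs8 (nsysL tp8 cs8 hk 3) w y

theorem T5_TT {t : ↥(chevE8.group k)} (ht : t ∈ T5 k) : t ∈ TT chevE8 k := ht.1.1

theorem T5_GT {t : ↥(chevE8.group k)} (ht : t ∈ T5 k) : t ∈ GT k := ht.1.2

/-- the functionals on `F₅⁴` attached to the elements of `T5` -/
theorem exists_phi (hk : LocFin k) {ζ : k} (hζ : IsPrimitiveRoot ζ 5) {t : ↥(chevE8.group k)} (ht : t ∈ T5 k) :
    ∃ φ : Module.Dual (ZMod 5) (Fin 4 → ZMod 5), ∀ x, cX tp8 t x = ζ ^ (φ (PP x)).val := by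
  obtain ⟨e, -, he, -, h⟩ := exists_iso3 hk hζ
  rw [← he] at ht
  obtain ⟨φ, rfl⟩ := ht
  exact ⟨φ, h φ⟩

theorem zval_inj {ζ : k} (hζ : IsPrimitiveRoot ζ 5) {a b : ZMod 5} (h : ζ ^ a.val = ζ ^ b.val) : a = b :=
  ZMod.val_injective 5 (hζ.pow_inj (ZMod.val_lt a) (ZMod.val_lt b) h)

theorem zval_one {ζ : k} (hζ : IsPrimitiveRoot ζ 5) {a : ZMod 5} (h : ζ ^ a.val = 1) : a = 0 := by
  apply zval_inj hζ
  rw [h, ZMod.val_zero, pow_zero]

/-- representatives of `w` acting trivially on `T5` -/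
theorem eq_one_of_comm (hk : LocFin k) {w : W8} {y : ↥(chevE8.group k)} (hw : RP hk w y)
    (h : ∀ t ∈ T5 k, y * t = t * y) : w = 1 := by
  obtain ⟨ζ, hζ⟩ := exists_zeta3 k
  obtain ⟨e, -, he, -, hch⟩ := exists_iso3 hk hζ
  refine ChevalleyStructure.CoxeterGeom.eq_one_of_fix cs8 tp8.isCartan _ fun i => ?_
  have hr := isRoot_sr cs8 tp8.isCartan i
  refine PP_inj (rt_act hr w) hr ?_
  by_contra hne
  obtain ⟨j, hj⟩ := Function.ne_iff.1 hne
  let φ : Module.Dual (ZMod 5) (Fin 4 → ZMod 5) := LinearMap.proj j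
  have ht : e φ ∈ T5 k := he ▸ ⟨φ, rfl⟩
  have h2 := cX_rp tp8 cs8 hk 3 hw (T5_TT ht) (sr i)
  rw [h _ ht, mul_inv_cancel_right, hch, hch] at h2
  exact hj (zval_inj hζ h2)

theorem eq_one_of_TT (hk : LocFin k) {w : W8} {y : ↥(chevE8.group k)} (hw : RP hk w y) (hy : y ∈ TT chevE8 k) :
    w = 1 :=
  eq_one_of_comm hk hw fun _ ht => TT_comm tp8 y hy _ (T5_TT ht)

/-- the vector of the Cartan part with coordinates `c` -/
def ce {K : Type} [Field K] (c : Fin 8 → K) : chevE8.Idx → K := Sum.elim c 0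

theorem ce_inl {K : Type} [Field K] (c : Fin 8 → K) (i : Fin 8) : ce c (Sum.inl i) = c i := rfl

theorem ce_inr {K : Type} [Field K] (c : Fin 8 → K) (r : Fin chevE8.nroots) : ce c (Sum.inr r) = 0 := rfl

theorem ce_neg {K : Type} [Field K] (c : Fin 8 → K) : ce (-c) = -ce c := by
  funext i
  rcases i with i | r
  · rfl
  · exact neg_zero.symm

theorem ac_ce (hk : LocFin k) {w : W8} {y : ↥(chevE8.group k)} (h : RP hk w y) (c : Fin 8 → k) :
    ac y (ce c) = ce fun i => ∑ j, ((act w (sr j) i : ℤ) : k) * c j := ac_rp hk h c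

theorem act_sum (v : W8) (x : Fin 8 → ℤ) (i : Fin 8) : act v x i = ∑ j, act v (sr j) i * x j := by
  have h1 : x = ∑ j, x j • (sr j : Fin 8 → ℤ) := by
    funext i
    rw [Finset.sum_apply, Finset.sum_eq_single i (fun j _ hj => by
      rw [Pi.smul_apply, sr_ne hj.symm, smul_zero]) (fun h => absurd (Finset.mem_univ i) h), Pi.smul_apply, sr_self,
      smul_eq_mul, mul_one]
  conv_lhs => rw [h1, map_sum, Finset.sum_apply]
  refine Finset.sum_congr rfl fun j _ => ?_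
  rw [map_smul, Pi.smul_apply, smul_eq_mul, mul_comm]

/-- the elements of order 5 of `CW` have no fixed vectors on the lattice -/
theorem fix_lat {u : W8} (hu : u ∈ CW) (h5 : u ^ 5 = 1) (h1 : u ≠ 1) {x : Fin 8 → ℤ} (h : act u x = x) : x = 0 := by
  have step : ∀ x : Fin 8 → ℤ, act u x = x → ∃ y, x = (3 : ℤ) • y ∧ act u y = y := by
    intro x hx
    have h2 : (fun j => ((x j : ℤ) : ZMod 3)) = 0 := by
      refine fix_zero hu h5 h1 _ fun i => ?_
      have h3 := act_sum u x i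
      rw [hx] at h3
      rw [h3]
      push_cast
      rfl
    have h3 : ∀ j, (3 : ℤ) ∣ x j := fun j => by
      have := congrFun h2 j
      rw [Pi.zero_apply, ZMod.intCast_zmod_eq_zero_iff_dvd] at this
      exact_mod_cast this
    choose y hy using h3
    have hy' : x = (3 : ℤ) • y := by
      funext j; rw [hy, Pi.smul_apply, smul_eq_mul]
    refine ⟨y, hy', ?_⟩
    rw [hy', map_smul] at hx
    funext j
    have := congrFun hx j
    rw [Pi.smul_apply, Pi.smul_apply, smul_eq_mul, smul_eq_mul] at this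
    exact mul_left_cancel₀ (by norm_num) this
  have key : ∀ n : ℕ, ∀ x : Fin 8 → ℤ, act u x = x → ∀ j, (3 : ℤ) ^ n ∣ x j := by
    intro n
    induction n with
    | zero => intro x _ j; rw [pow_zero]; exact one_dvd _
    | succ n ih =>
      intro x hx j
      obtain ⟨y, rfl, hy⟩ := step x hx
      rw [Pi.smul_apply, smul_eq_mul, pow_succ']
      exact mul_dvd_mul_left _ (ih y hy j)
  funext j
  by_contra hne
  have h2 := key (x j).natAbs x h j
  have h3 := Int.natAbs_dvd_natAbs.2 h2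
  rw [Int.natAbs_pow] at h3
  have h4 := Nat.le_of_dvd (Nat.pos_of_ne_zero (Int.natAbs_ne_zero.2 hne)) h3
  have h5 : (x j).natAbs < 3 ^ (x j).natAbs := Nat.lt_pow_self (by norm_num)
  exact absurd h4 (not_le.2 h5)

theorem sum_five {u : W8} (hu : u ∈ CW) (h5 : u ^ 5 = 1) (h1 : u ≠ 1) (x : Fin 8 → ℤ) :
    x + act u x + act u (act u x) + act u (act u (act u x)) + act u (act u (act u (act u x))) = 0 := by
  apply fix_lat hu h5 h1
  have h6 : act u (act u (act u (act u (act u x)))) = x := by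
    rw [← act_mul, ← act_mul, ← act_mul, ← act_mul, show u * u * u * u * u = u ^ 5 by rw [pow5, mul_assoc (u * u)],
      h5, act_one]
  simp only [map_add, h6]
  abel

/-- coordinates on `T5` -/
theorem exists_iso' (hk : LocFin k) {ζ : k} (hζ : IsPrimitiveRoot ζ 5) :
    ∃ e : Module.Dual (ZMod 5) (Fin 4 → ZMod 5) → ↥(chevE8.group k), Function.Injective e ∧
      (∀ t, t ∈ T5 k ↔ ∃ φ, e φ = t) ∧ e 0 = 1 ∧ (∀ φ ψ, e (φ + ψ) = e φ * e ψ) ∧
      (∀ (c : ZMod 5) φ, e (c • φ) = e φ ^ c.val) ∧ ∀ φ x, cX tp8 (e φ) x = ζ ^ (φ (PP x)).val := by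
  obtain ⟨e, hi, he, ha, hch⟩ := exists_iso3 hk hζ
  have h0 : e 0 = 1 := by
    have := ha 0 0
    rw [add_zero] at this
    exact (mul_eq_left.1 this.symm)
  have hn : ∀ (n : ℕ) φ, e (n • φ) = e φ ^ n := by
    intro n φ
    induction n with
    | zero => rw [zero_smul, pow_zero, h0]
    | succ n ih => rw [add_smul, one_smul, ha, ih, pow_succ]
  refine ⟨e, hi, fun t => by rw [← he]; exact Iff.rfl, h0, ha, fun c φ => ?_, hch⟩
  rw [← hn]
  congr 1
  rw [← Nat.cast_smul_eq_nsmul (ZMod 5), ZMod.natCast_zmod_val]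

variable {f : SL35 →* ↥(chevE8.group k)}

/-- **`C_GT(f VP) ≤ AT`** -/
theorem cent_VP_AT (hk : LocFin k) (hf : Function.Injective f) (hT : ∀ s ∈ VP, f s ∈ T5 k) (hreg : Reg (f '' VP))
    {y : ↥(chevE8.group k)} (hy : y ∈ GT k) (h : ∀ s ∈ VP, y * f s = f s * y) : y ∈ AT k := by
  obtain ⟨w, hw, hfix⟩ := cent_reg hk (S := f '' VP) (by rintro _ ⟨s, hs, rfl⟩; exact hT s hs) hreg (y := y)
    (by rintro _ ⟨s, hs, rfl⟩; exact h s hs)
  have hcw : w ∈ CW := cw_of_rp hk hy hw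
  obtain ⟨ζ, hζ⟩ := exists_zeta3 k
  obtain ⟨e, hi, he, h0, ha, hsm, hch⟩ := exists_iso' hk hζ
  have h1 : ∀ s ∈ VP, ∃ φ, e φ = f s ∧ ∀ x, φ (PP (act w x)) = φ (PP x) := by
    intro s hs
    obtain ⟨φ, hφ⟩ := (he _).1 (hT s hs)
    refine ⟨φ, hφ, fun x => ?_⟩
    apply zval_inj hζ
    rw [← hch, ← hch, hφ]
    exact hfix _ ⟨s, hs, rfl⟩ x
  have hn := five_of_reg (Φ := {φ | e φ ∈ f '' VP}) (w := w) (by
    intro a haa
    obtain ⟨_, ⟨s, hs, rfl⟩, hne⟩ := hreg a haa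
    obtain ⟨φ, hφ, -⟩ := h1 s hs
    refine ⟨φ, ⟨s, hs, hφ.symm⟩, fun h2 => hne ?_⟩
    rw [← hφ, hch, h2, ZMod.val_zero, pow_zero]) (by
    rintro φ ⟨s, hs, hφ⟩ x
    obtain ⟨ψ, hψ, hψx⟩ := h1 s hs
    have : φ = ψ := hi (hφ.symm.trans hψ.symm)
    rw [this]; exact hψx x)
  obtain ⟨n, hn⟩ := hn
  have h5 := five_elt hcw hn
  have hw1 : w = 1 := by
    by_contra hne
    obtain ⟨φ, hφ, hφx⟩ := h1 (vp 1 0) ⟨1, 0, rfl⟩
    obtain ⟨ψ, hψ, hψx⟩ := h1 (vp 0 1) ⟨0, 1, rfl⟩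
    obtain ⟨c, hc⟩ := fix_line hcw h5 hne hφx hψx (by
      rintro rfl
      rw [h0, ← map_one f] at hφ
      have := vp_inj ((vp_zero.trans (hf hφ)) : vp 0 0 = vp 1 0)
      exact absurd this.1 (by decide))
    rw [hc, hsm, hφ, ← map_pow, vp_pow] at hψ
    have := vp_inj (hf hψ)
    exact absurd this.2 (by simp)
  rw [hw1] at hw
  exact ⟨hw.mem_of_one, hy⟩

/-- elements normalising `f VP` normalise `T5` -/
theorem norm_VP_T5 (hk : LocFin k) (hf : Function.Injective f) (hT : ∀ s ∈ VP, f s ∈ T5 k) (hreg : Reg (f '' VP))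
    {y : ↥(chevE8.group k)} (hy : y ∈ GT k) (h : ∀ s ∈ VP, ∃ s' ∈ VP, y⁻¹ * f s * y = f s') :
    (∀ t ∈ AT k, y * t * y⁻¹ ∈ AT k) ∧ ∃ v ∈ CW, RP hk v y := by
  have h1 : ∀ t ∈ AT k, y * t * y⁻¹ ∈ AT k := by
    intro t ht
    refine cent_VP_AT hk hf hT hreg (mul_mem (mul_mem hy ht.2) (inv_mem hy)) fun s hs => ?_
    obtain ⟨s', hs', e⟩ := h s hs
    have h2 : t * f s' = f s' * t := TT_comm tp8 t ht.1 _ (T5_TT (hT s' hs'))
    rw [← e] at h2
    calc y * t * y⁻¹ * f s = y * (t * (y⁻¹ * f s * y)) * y⁻¹ := by group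
      _ = y * (y⁻¹ * f s * y * t) * y⁻¹ := by rw [h2]
      _ = f s * (y * t * y⁻¹) := by group
  refine ⟨h1, norm_T5 hk hy fun t ht => ⟨h1 t ht.1, ?_⟩⟩
  rw [conj_pow, ht.2, mul_one, mul_inv_cancel]

theorem z0_inv (a b : ZMod 5) : ∃ s ∈ VP, z0⁻¹ * vp a b * z0 = s := by
  refine ⟨vp (3 * a) (3 * b), ⟨_, _, rfl⟩, ?_⟩
  revert a b
  decide

theorem uu_not_comm : uu * vp 1 0 ≠ vp 1 0 * uu := by decide

/-- **the main step** -/
theorem goodIn_base (hk : LocFin k) (hf : Function.Injective f) (hr : ∀ x, f x ∈ GT k) (hT : ∀ s ∈ VP, f s ∈ T5 k)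
    (hreg : Reg (f '' VP)) : GoodIn (GT k) f := by
  have hFx : ∀ v, v ∈ Fx (f '' VP) ↔ ∀ r, v (Sum.inr r) = 0 := fun v =>
    mem_Fx_reg (by rintro _ ⟨s, hs, rfl⟩; exact T5_TT (hT s hs)) hreg
  have helim : ∀ v ∈ Fx (f '' VP), ∃ c : Fin 8 → k, v = ce c := by
    intro v hv
    refine ⟨fun i => v (Sum.inl i), ?_⟩
    funext i
    rcases i with i | r
    · rfl
    · exact (hFx v).1 hv r
  -- `z0`
  obtain ⟨hzA, ω, hω, hzω⟩ := norm_VP_T5 hk hf hT hreg (hr z0) (by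
    rintro _ ⟨a, b, rfl⟩
    obtain ⟨s, hs, e⟩ := z0_inv a b
    exact ⟨s, hs, by rw [← e, map_mul, map_mul, map_inv]⟩)
  have hω2 : ∀ x, act ω (act ω x) = -x := by
    obtain ⟨ζ, hζ⟩ := exists_zeta3 k
    obtain ⟨e, hi, he, h0, ha, hsm, hch⟩ := exists_iso' hk hζ
    -- the action on `f VP`
    have h1 : ∀ φ, e φ ∈ f '' VP → ∀ x, φ (PP (act ω x)) * 2 = φ (PP x) := by
      rintro φ ⟨s, hs, hφ⟩ x
      obtain ⟨a, b, rfl⟩ := hs
      have h2 := cX_rp tp8 cs8 hk 3 hzω (T5_TT (hT _ ⟨a, b, rfl⟩)) x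
      rw [← map_inv, ← map_mul, ← map_mul, z0_vp, map_pow, hφ, cX_pow tp8 (T5_TT ((he _).2 ⟨φ, rfl⟩)), hch, hch,
        ← pow_mul] at h2
      apply zval_inj hζ
      rw [← h2]
      exact pow_eq_pow_of_modEq (by
        rw [ZMod.val_mul]
        exact Nat.mod_modEq _ _) hζ.pow_eq_one
    have h4 : ω ^ 4 = 1 := by
      have h5 : RP hk (ω ^ 4) (f z0 ^ 4) := by
        rw [pow4 ω, pow4 (f z0)]
        exact (hzω.mul hzω).mul (hzω.mul hzω)
      refine eq_one_of_TT hk h5 ?_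
      rw [← map_pow, z0_pow, map_one]
      exact one_mem _
    have hwω := Subgroup.mem_centralizer_singleton_iff.1 hω
    have hww : ∀ x, act (w8 * w8 * (ω * ω)) x = -act (ω * ω) x := fun x => by
      rw [act_mul, act_mul, w8_sq]
    obtain ⟨n, hn⟩ := five_of_reg (Φ := {φ | e φ ∈ f '' VP}) (w := w8 * w8 * (ω * ω)) (by
      intro a haa
      obtain ⟨_, ⟨s, hs, rfl⟩, hne⟩ := hreg a haa
      obtain ⟨φ, hφ⟩ := (he _).1 (hT s hs)
      refine ⟨φ, ⟨s, hs, hφ.symm⟩, fun h2 => hne ?_⟩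
      rw [← hφ, hch, h2, ZMod.val_zero, pow_zero]) (by
      intro φ hφ x
      rw [hww, map_neg, map_neg, act_mul]
      have h6 := h1 φ hφ (act ω x)
      have h7 := h1 φ hφ x
      rw [← h6] at h7
      exact z5 _ _ h7)
    have h8 : (w8 * w8 * (ω * ω)) ^ 2 = 1 := by
      refine act_ext fun x => ?_
      rw [sq, act_mul, hww, hww, map_neg, neg_neg, ← act_mul, ← pow4, h4]
    have h9 : w8 * w8 * (ω * ω) = 1 := by
      have h10 : orderOf (w8 * w8 * (ω * ω)) ∣ 2 := orderOf_dvd_of_pow_eq_one h8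
      have h11 : orderOf (w8 * w8 * (ω * ω)) ∣ 5 ^ n := orderOf_dvd_of_pow_eq_one hn
      have h12 : Nat.Coprime 2 (5 ^ n) := Nat.Coprime.pow_right n (by norm_num)
      exact orderOf_eq_one_iff.1 (Nat.eq_one_of_dvd_coprimes h12 h10 h11)
    intro x
    have := hww x
    rw [h9, act_one, act_mul] at this
    exact (neg_eq_iff_eq_neg.2 this).symm
  -- `u`
  obtain ⟨-, ν, hν, huν⟩ := norm_VP_T5 hk hf hT hreg (hr uu) (by
    rintro _ ⟨a, b, rfl⟩
    exact ⟨vp a (b + a), ⟨_, _, rfl⟩, by rw [← uu_vp', map_mul, map_mul, map_inv]⟩)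
  have hν5 : ν ^ 5 = 1 := by
    have h5 : RP hk (ν ^ 5) (f uu ^ 5) := by
      rw [pow5 ν, pow5 (f uu)]
      exact ((huν.mul huν).mul (huν.mul huν)).mul huν
    refine eq_one_of_TT hk h5 ?_
    rw [← map_pow, uu_pow, map_one]
    exact one_mem _
  have hν1 : ν ≠ 1 := by
    rintro rfl
    have h6 := TT_comm tp8 _ huν.mem_of_one _ (T5_TT (hT _ ⟨1, 0, rfl⟩))
    rw [← map_mul, ← map_mul] at h6
    exact uu_not_comm (hf h6)
  refine ⟨⟨?_, ?_, ?_⟩, ?_, ?_⟩
  · -- dimension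
    let L : (Fin 8 → k) →ₗ[k] (chevE8.Idx → k) :=
      { toFun := fun c => ce c
        map_add' := fun c d => by
          funext i; rcases i with i | r
          · rfl
          · exact (add_zero (0 : k)).symm
        map_smul' := fun a c => by
          funext i; rcases i with i | r
          · rfl
          · exact (mul_zero a).symm }
    have hL : LinearMap.range L = Fx (f '' VP) := by
      ext v
      constructor
      · rintro ⟨c, rfl⟩
        exact (hFx _).2 fun r => rfl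
      · intro hv
        obtain ⟨c, rfl⟩ := helim v hv
        exact ⟨c, rfl⟩
    have hLi : Function.Injective L := by
      intro c d h
      funext i
      exact congrFun h (Sum.inl i)
    rw [← hL, LinearMap.finrank_range_of_inj hLi, Module.finrank_fin_fun]
  · intro v hv
    obtain ⟨c, rfl⟩ := helim v hv
    refine (ac_mul (f z0) (f z0) _).symm.trans ?_
    rw [ac_ce hk (hzω.mul hzω) c]
    have h7 : (fun i : Fin 8 => ∑ j, ((act (ω * ω) (sr j) i : ℤ) : k) * c j) = -c := by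
      funext i
      rw [Finset.sum_eq_single i]
      · rw [act_mul, hω2, Pi.neg_apply, sr_self, Pi.neg_apply]
        push_cast
        ring
      · intro j _ hj
        rw [act_mul, hω2, Pi.neg_apply, sr_ne hj.symm]
        push_cast
        ring
      · exact fun h => absurd (Finset.mem_univ i) h
    rw [h7, ce_neg]
  · intro v hv
    obtain ⟨c, rfl⟩ := helim v (fun g hg => hv g (Set.image_mono VP_sub_US hg))
    have h7 := hv (f uu) ⟨uu, uu_mem, rfl⟩
    rw [ac_ce hk huν c] at h7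
    have h8 : c = 0 := fix_zero hν hν5 hν1 c fun i => congrFun h7 (Sum.inl i)
    rw [h8]
    funext i
    rcases i with i | r <;> rfl
  · intro g hg hc
    have hgA := cent_VP_AT hk hf hT hreg hg fun s hs => hc s (VP_sub_US hs)
    have hcomm := hc uu uu_mem
    have hfix : ∀ x, cX tp8 g (act ν x) = cX tp8 g x := fun x => by
      have h6 := cX_rp tp8 cs8 hk 3 huν hgA.1 x
      rw [← hcomm, mul_inv_cancel_right] at h6
      exact h6
    have hg5 : g ^ 5 = 1 := by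
      refine cX_inj tp8 (pow_mem hgA.1 5) (one_mem _) fun i => ?_
      rw [cX_pow tp8 hgA.1, cX_one]
      have h6 := congrArg (cX tp8 g) (sum_five hν hν5 hν1 (sr i))
      have hm := isMC_cX tp8 hgA.1
      simp only [hm.zero, hm.add, hfix] at h6
      rw [← h6]
      ring
    obtain ⟨ζ, hζ⟩ := exists_zeta3 k
    obtain ⟨e, hi, he, h0, ha, hsm, hch⟩ := exists_iso' hk hζ
    obtain ⟨φ, hφ⟩ := (he g).1 ⟨hgA, hg5⟩
    obtain ⟨ψ, hψ⟩ := (he _).1 (hT (vp 0 1) ⟨0, 1, rfl⟩)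
    have hφx : ∀ x, φ (PP (act ν x)) = φ (PP x) := fun x => by
      apply zval_inj hζ
      rw [← hch, ← hch, hφ]
      exact hfix x
    have hψx : ∀ x, ψ (PP (act ν x)) = ψ (PP x) := fun x => by
      apply zval_inj hζ
      rw [← hch, ← hch, hψ]
      have h6 := cX_rp tp8 cs8 hk 3 huν (T5_TT (hT (vp 0 1) ⟨0, 1, rfl⟩)) x
      rw [← map_inv, ← map_mul, ← map_mul, uu_vp, sub_zero] at h6
      exact h6
    obtain ⟨c, hc⟩ := fix_line hν hν5 hν1 hψx hφx (by
      rintro rfl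
      rw [h0, ← map_one f] at hψ
      have := vp_inj ((vp_zero.trans (hf hψ)) : vp 0 0 = vp 0 1)
      exact absurd this.2 (by decide))
    refine ⟨vp 0 c, ⟨0, c, 0, rfl⟩, ?_⟩
    rw [← hφ, hc, hsm, hψ, ← map_pow, vp_pow]
    congr 2
    simp
  · intro g hg h hh h1 h2
    exact TT_comm tp8 g (cent_VP_AT hk hf hT hreg hg h1).1 h (cent_VP_AT hk hf hT hreg hh h2).1

/-! ### Conjugation -/

/-- the conjugate homomorphism -/
def cjf (g : ↥(chevE8.group k)) (f : SL35 →* ↥(chevE8.group k)) : SL35 →* ↥(chevE8.group k) :=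
  (MulAut.conj g).toMonoidHom.comp f

theorem cjf_apply (g : ↥(chevE8.group k)) (f : SL35 →* ↥(chevE8.group k)) (x : SL35) : cjf g f x = g * f x * g⁻¹ := rfl

theorem finrank_Fx_cjf (g : ↥(chevE8.group k)) (f : SL35 →* ↥(chevE8.group k)) (S : Set SL35) :
    Module.finrank k (Fx (cjf g f '' S)) = Module.finrank k (Fx (f '' S)) := by
  have hi : ∀ v, ac g⁻¹ (ac g v) = v := fun v => by rw [← ac_mul, inv_mul_cancel, ac_one]
  have hi' : ∀ v, ac g (ac g⁻¹ v) = v := fun v => by rw [← ac_mul, mul_inv_cancel, ac_one]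
  have h1 : Fx (cjf g f '' S) = (Fx (f '' S)).map (ac g) := by
    ext v
    constructor
    · intro hv
      refine ⟨ac g⁻¹ v, ?_, hi' v⟩
      rintro _ ⟨s, hs, rfl⟩
      have := hv _ ⟨s, hs, rfl⟩
      rw [cjf_apply, ac_mul, ac_mul] at this
      rw [← hi (ac (f s) (ac g⁻¹ v)), this]
    · rintro ⟨w, hw, rfl⟩
      rintro _ ⟨s, hs, rfl⟩
      rw [cjf_apply, ac_mul, ac_mul, hi, hw _ ⟨s, hs, rfl⟩]
  rw [h1]
  let E : (chevE8.Idx → k) ≃ₗ[k] (chevE8.Idx → k) :=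
    LinearEquiv.ofLinearMap (ac g) (ac g⁻¹) (LinearMap.ext hi') (LinearMap.ext hi)
  exact LinearEquiv.finrank_map_eq E _

theorem mem_Fx_cjf {g : ↥(chevE8.group k)} {f : SL35 →* ↥(chevE8.group k)} {S : Set SL35} {v : chevE8.Idx → k}
    (hv : v ∈ Fx (f '' S)) : ac g v ∈ Fx (cjf g f '' S) := by
  rintro _ ⟨s, hs, rfl⟩
  rw [cjf_apply, ac_mul, ac_mul, ← ac_mul g⁻¹, inv_mul_cancel, ac_one, hv _ ⟨s, hs, rfl⟩]

/-- `GoodIn` is invariant under conjugation. -/
theorem GoodIn.of_cjf {Γ : Subgroup ↥(chevE8.group k)} {g : ↥(chevE8.group k)} (hg : g ∈ Γ)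
    {f : SL35 →* ↥(chevE8.group k)} (h : GoodIn Γ (cjf g f)) : GoodIn Γ f := by
  have hi : ∀ v, ac g⁻¹ (ac g v) = v := fun v => by rw [← ac_mul, inv_mul_cancel, ac_one]
  have hinj : ∀ v w, ac g v = ac g w → v = w := fun v w e => by rw [← hi v, e, hi]
  have hc : ∀ (y : ↥(chevE8.group k)) (s : SL35), y * f s = f s * y → g * y * g⁻¹ * cjf g f s = cjf g f s * (g * y * g⁻¹) := by
    intro y s e
    rw [cjf_apply]
    calc g * y * g⁻¹ * (g * f s * g⁻¹) = g * (y * f s) * g⁻¹ := by group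
      _ = g * (f s * y) * g⁻¹ := by rw [e]
      _ = g * f s * g⁻¹ * (g * y * g⁻¹) := by group
  refine ⟨⟨?_, ?_, ?_⟩, ?_, ?_⟩
  · rw [← finrank_Fx_cjf g f VP]
    exact h.dim
  · intro v hv
    have h1 := h.zz _ (mem_Fx_cjf (g := g) hv)
    apply hinj
    rw [map_neg, ← h1, cjf_apply, ← ac_mul, ← ac_mul, ← ac_mul, ← ac_mul]
    congr 1
    group
  · intro v hv
    have h1 := h.fixS _ (mem_Fx_cjf (g := g) hv)
    apply hinj
    rw [h1, map_zero]
  · intro y hy hys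
    obtain ⟨s, hs, e⟩ := h.centS (g * y * g⁻¹) (mul_mem (mul_mem hg hy) (inv_mem hg)) fun s hs => hc y s (hys s hs)
    refine ⟨s, hs, ?_⟩
    rw [cjf_apply] at e
    exact mul_left_cancel (mul_right_cancel e)
  · intro x hx y hy hxs hys
    have e := h.centV (g * x * g⁻¹) (mul_mem (mul_mem hg hx) (inv_mem hg)) (g * y * g⁻¹)
      (mul_mem (mul_mem hg hy) (inv_mem hg)) (fun s hs => hc x s (hxs s hs)) (fun s hs => hc y s (hys s hs))
    have e1 : g * x * g⁻¹ * (g * y * g⁻¹) = g * (x * y) * g⁻¹ := by group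
    have e2 : g * y * g⁻¹ * (g * x * g⁻¹) = g * (y * x) * g⁻¹ := by group
    rw [e1, e2] at e
    exact mul_left_cancel (mul_right_cancel e)

/-- **D2** -/
theorem goodIn_of_reg (hk : LocFin k) (hf : Function.Injective f) (hr : ∀ x, f x ∈ GT k) {g : ↥(chevE8.group k)}
    (hg : g ∈ GT k) (hT : ∀ s ∈ VP, g * f s * g⁻¹ ∈ T5 k) (hreg : Reg ((fun s => g * f s * g⁻¹) '' VP)) :
    GoodIn (GT k) f := by
  refine GoodIn.of_cjf hg (goodIn_base hk ?_ (fun x => mul_mem (mul_mem hg (hr x)) (inv_mem hg)) hT hreg)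
  intro x y e
  exact hf (mul_left_cancel (mul_right_cancel e))

end Rep

end Cfsg.Agent.H865.L5
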